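import Mathlib

/-!
# Generic freeness: `a`-bases and filtrations

A family `b : ι → M` of elements of an `A`-module is an `a`-basis if it becomes a basis after
inverting `a`; this is phrased elementwise.  We show that an exhaustive `ℕ`-filtration whose
successive quotients have `a`-bases has an `a`-basis.
-/

set_option autoImplicit false

namespace Groth.Agent.Helper9.GenFree

variable {A : Type*} [CommRing A] {M : Type*} [AddCommGroup M] [Module A M]

/-- The family `b` becomes a basis after inverting `a`. -/
def IsABasis (a : A) {ι : Type*} (b : ι → M) : Prop :=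
  (∀ c : ι →₀ A, (∃ k : ℕ, a ^ k • Finsupp.linearCombination A b c = 0) → c = 0) ∧
  (∀ m : M, ∃ k : ℕ, a ^ k • m ∈ Submodule.span A (Set.range b))

lemma IsABasis.mul [IsDomain A] {a a' : A} {ι : Type*} {b : ι → M} (h : IsABasis a b)
    (ha' : a' ≠ 0) : IsABasis (a * a') b := by
  refine ⟨fun c ⟨k, hk⟩ => ?_, fun m => ?_⟩
  · have h1 : a ^ k • Finsupp.linearCombination A b (a' ^ k • c) = 0 := by
      rw [map_smul, smul_smul, ← mul_pow]; exact hk
    have h2 := h.1 _ ⟨k, h1⟩
    ext i
    have h3 := DFunLike.congr_fun h2 i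
    simp only [Finsupp.smul_apply, smul_eq_mul, Finsupp.zero_apply, mul_eq_zero] at h3
    rcases h3 with h3 | h3
    · exact absurd (pow_eq_zero_iff (n := k) (by rintro rfl; simp at h3) |>.mp h3) ha'
    · exact h3
  · obtain ⟨k, hk⟩ := h.2 m
    refine ⟨k, ?_⟩
    rw [mul_pow, mul_comm, mul_smul]
    exact Submodule.smul_mem _ _ hk

lemma IsABasis.mul' [IsDomain A] {a a' : A} {ι : Type*} {b : ι → M} (h : IsABasis a b)
    (ha' : a' ≠ 0) : IsABasis (a' * a) b := by
  rw [mul_comm]; exact h.mul ha'

/-- Transport an `a`-basis along a linear equivalence. -/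
lemma IsABasis.map {M' : Type*} [AddCommGroup M'] [Module A M'] {a : A} {ι : Type*} {b : ι → M}
    (h : IsABasis a b) (e : M ≃ₗ[A] M') : IsABasis a (fun i => e (b i)) := by
  refine ⟨fun c ⟨k, hk⟩ => h.1 c ⟨k, e.injective ?_⟩, fun m => ?_⟩
  · rw [map_smul, map_zero, ← hk]
    congr 1
    rw [Finsupp.linearCombination_apply, Finsupp.linearCombination_apply, map_finsuppSum]
    simp
  · obtain ⟨k, hk⟩ := h.2 (e.symm m)
    refine ⟨k, ?_⟩
    have : a ^ k • m = e (a ^ k • e.symm m) := by simp
    rw [this]
    have h1 : Set.range (fun i => e (b i)) = e '' Set.range b := by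
      rw [← Set.range_comp]; rfl
    rw [h1]
    have h2 := Submodule.mem_map_of_mem (f := (e : M →ₗ[A] M')) hk
    rw [Submodule.map_span] at h2
    exact h2

/-- **Filtration lemma**: relative `a`-bases of the steps of an exhaustive filtration assemble
to an `a`-basis. -/
theorem isABasis_of_filtration (a : A) (N : ℕ → Submodule A M) (h0 : N 0 = ⊥)
    (hmono : Monotone N) (hex : ∀ m, ∃ k, m ∈ N k)
    (ι : ℕ → Type*) (b : ∀ k, ι k → M) (hmem : ∀ k i, b k i ∈ N (k + 1))
    (hLI : ∀ k (c : ι k →₀ A),
      (∃ j : ℕ, a ^ j • Finsupp.linearCombination A (b k) c ∈ N k) → c = 0)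
    (hSP : ∀ k, ∀ m ∈ N (k + 1), ∃ (j : ℕ) (c : ι k →₀ A),
      a ^ j • m - Finsupp.linearCombination A (b k) c ∈ N k) :
    IsABasis a (fun p : Σ k, ι k => b p.1 p.2) := by
  classical
  have hlc_mem : ∀ k (c : ι k →₀ A), Finsupp.linearCombination A (b k) c ∈
      Submodule.span A (Set.range (fun p : Σ k, ι k => b p.1 p.2)) := by
    intro k c
    have h1 : Finsupp.linearCombination A (b k) c ∈ Submodule.span A (Set.range (b k)) := by
      rw [← Finsupp.range_linearCombination]; exact ⟨c, rfl⟩
    refine Submodule.span_mono ?_ h1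
    rintro _ ⟨i, rfl⟩
    exact ⟨⟨k, i⟩, rfl⟩
  have hlc_N : ∀ k (c : ι k →₀ A), Finsupp.linearCombination A (b k) c ∈ N (k + 1) := by
    intro k c
    rw [Finsupp.linearCombination_apply]
    exact Submodule.sum_mem _ fun i _ => Submodule.smul_mem _ _ (hmem k i)
  refine ⟨?_, ?_⟩
  · -- linear independence
    have hS : ∀ K : ℕ, ∀ c : (Σ k, ι k) →₀ A, c.splitSupport ⊆ Finset.range K →
        (∃ j : ℕ, a ^ j • Finsupp.linearCombination A (fun p : Σ k, ι k => b p.1 p.2) c = 0) →
        c = 0 := by
      intro K
      induction K with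
      | zero =>
        intro c hc _
        have : c.splitSupport = ∅ := Finset.subset_empty.mp (by simpa using hc)
        rw [← Finsupp.support_eq_empty, Finsupp.sigma_support, this]
        rfl
      | succ K ih =>
        intro c hc ⟨j, hj⟩
        have hsum : Finsupp.linearCombination A (fun p : Σ k, ι k => b p.1 p.2) c =
            ∑ k ∈ c.splitSupport, Finsupp.linearCombination A (b k) (c.split k) := by
          rw [Finsupp.linearCombination_apply, Finsupp.sigma_sum]
          refine Finset.sum_congr rfl fun k _ => ?_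
          rw [Finsupp.linearCombination_apply]
        by_cases hK : K ∈ c.splitSupport
        · exfalso
          have hK' := (Finsupp.mem_splitSupport_iff_nonzero c K).mp hK
          apply hK'
          apply hLI K
          refine ⟨j, ?_⟩
          rw [hsum, ← Finset.add_sum_erase _ _ hK, smul_add, add_eq_zero_iff_eq_neg] at hj
          rw [hj]
          refine Submodule.neg_mem _ (Submodule.smul_mem _ _ (Submodule.sum_mem _ fun k hk => ?_))
          have hk1 : k ∈ c.splitSupport := Finset.mem_of_mem_erase hk
          have hk2 : k ≠ K := Finset.ne_of_mem_erase hk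
          have hk3 : k < K + 1 := Finset.mem_range.mp (hc hk1)
          exact hmono (by omega : k + 1 ≤ K) (hlc_N k _)
        · apply ih c _ ⟨j, hj⟩
          intro k hk
          have hk3 : k < K + 1 := Finset.mem_range.mp (hc hk)
          have : k ≠ K := fun h => hK (h ▸ hk)
          exact Finset.mem_range.mpr (by omega)
    intro c hc
    exact hS (c.splitSupport.sup id + 1) c (fun k hk => Finset.mem_range.mpr
      (Nat.lt_succ_of_le (Finset.le_sup (f := id) hk))) hc
  · -- spanning
    have hsp : ∀ k, ∀ m ∈ N k, ∃ j : ℕ, a ^ j • m ∈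
        Submodule.span A (Set.range (fun p : Σ k, ι k => b p.1 p.2)) := by
      intro k
      induction k with
      | zero =>
        intro m hm
        rw [h0, Submodule.mem_bot] at hm
        subst hm
        exact ⟨0, by simp⟩
      | succ k ih =>
        intro m hm
        obtain ⟨j, c, hjc⟩ := hSP k m hm
        obtain ⟨j', hj'⟩ := ih _ hjc
        refine ⟨j' + j, ?_⟩
        have : a ^ (j' + j) • m = a ^ j' • (a ^ j • m - Finsupp.linearCombination A (b k) c) +
            a ^ j' • Finsupp.linearCombination A (b k) c := by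
          rw [smul_sub, pow_add, mul_smul]; abel
        rw [this]
        exact add_mem hj' (Submodule.smul_mem _ _ (hlc_mem k c))
    intro m
    obtain ⟨k, hk⟩ := hex m
    exact hsp k m hk

end Groth.Agent.Helper9.GenFree
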