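import Mathlib
import Groth.Agent.Lib.Helper9.GenFree.ABasis

set_option autoImplicit false

namespace Groth.Agent.Helper9.GenFree

universe u

variable {A : Type*} [CommRing A] {M : Type*} [AddCommGroup M] [Module A M]

/-- An `a`-basis gives a basis of the localization at `a`. -/
theorem IsABasis.free_localizedModule {a : A} {ι : Type*} {b : ι → M} (h : IsABasis a b) :
    Module.Free (Localization.Away a) (LocalizedModule (Submonoid.powers a) M) := by
  classical
  set S := Submonoid.powers a
  set f := LocalizedModule.mkLinearMap S M
  have hli : LinearIndependent A (fun i => f (b i)) := by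
    rw [linearIndependent_iff]
    intro c hc
    apply h.1 c
    have h1 : f (Finsupp.linearCombination A b c) = 0 := by
      rw [← hc, Finsupp.linearCombination_apply, Finsupp.linearCombination_apply, map_finsuppSum]
      simp
    obtain ⟨s, hs⟩ := (IsLocalizedModule.eq_zero_iff S f).mp h1
    obtain ⟨k, hk⟩ := s.2
    have hk' : a ^ k = (s : A) := hk
    exact ⟨k, by rw [hk']; exact hs⟩
  have hli' : LinearIndependent (Localization.Away a) (fun i => f (b i)) :=
    hli.localization (Localization.Away a) S
  have hsp : ⊤ ≤ Submodule.span (Localization.Away a) (Set.range fun i => f (b i)) := by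
    intro x _
    induction x using LocalizedModule.induction_on with
    | h m s =>
      obtain ⟨k, hk⟩ := h.2 m
      have h1 : f (a ^ k • m) ∈ Submodule.span (Localization.Away a)
          (Set.range fun i => f (b i)) := by
        have h2 : f (a ^ k • m) ∈ Submodule.map f (Submodule.span A (Set.range b)) :=
          Submodule.mem_map_of_mem hk
        rw [Submodule.map_span, ← Set.range_comp] at h2
        exact Submodule.span_le_restrictScalars A (Localization.Away a) _ h2
      have h3 : LocalizedModule.mk m s =
          (Localization.mk 1 (s * ⟨a ^ k, k, rfl⟩) : Localization.Away a) • f (a ^ k • m) := by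
        rw [LocalizedModule.mkLinearMap_apply, LocalizedModule.mk_smul_mk, one_smul,
          LocalizedModule.mk_eq]
        refine ⟨1, ?_⟩
        simp only [one_smul, Submonoid.smul_def, Submonoid.coe_mul, mul_one]
        rw [mul_smul]
      rw [h3]
      exact Submodule.smul_mem _ _ h1
  exact Module.Free.of_basis (Module.Basis.mk hli' hsp)

end Groth.Agent.Helper9.GenFree

namespace Groth.Agent.Helper9.GenFree

variable {A : Type*} [CommRing A] {M : Type*} [AddCommGroup M] [Module A M]

/-- A basis of the localization at `a` gives an `a`-basis (clearing denominators). -/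
theorem exists_isABasis_of_basis [IsDomain A] {a : A} (ha : a ≠ 0) {ι : Type*}
    (v : Module.Basis ι (Localization.Away a) (LocalizedModule (Submonoid.powers a) M)) :
    ∃ b : ι → M, IsABasis a b := by
  classical
  set S := Submonoid.powers a
  set f := LocalizedModule.mkLinearMap S M
  have hinj : Function.Injective (algebraMap A (Localization.Away a)) :=
    IsLocalization.injective (Localization.Away a) (powers_le_nonZeroDivisors_of_noZeroDivisors ha)
  have hunit : ∀ k : ℕ, IsUnit (algebraMap A (Localization.Away a) (a ^ k)) := fun k =>
    IsLocalization.map_units (Localization.Away a) (⟨a ^ k, k, rfl⟩ : S)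
  -- choose numerators
  have hnum : ∀ i, ∃ (m : M) (k : ℕ), f m = (hunit k).unit • v i := by
    intro i
    induction hx : v i using LocalizedModule.induction_on with
    | h m s =>
      obtain ⟨k, hk⟩ := s.2
      have hk' : a ^ k = (s : A) := hk
      refine ⟨m, k, ?_⟩
      rw [Units.smul_def, IsUnit.unit_spec, algebraMap_smul, LocalizedModule.mkLinearMap_apply,
        hk', LocalizedModule.smul'_mk]
      rw [LocalizedModule.mk_eq]
      exact ⟨1, by simp [Submonoid.smul_def]⟩
  choose b kk hb using hnum
  set v' := v.unitsSMul (fun i => (hunit (kk i)).unit) with hv'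
  have hv'b : ∀ i, v' i = f (b i) := fun i => by rw [hv', Module.Basis.unitsSMul_apply, hb]
  have hflc : ∀ c : ι →₀ A, f (Finsupp.linearCombination A b c) =
      Finsupp.linearCombination (Localization.Away a) v'
        (c.mapRange (algebraMap A (Localization.Away a)) (map_zero _)) := by
    intro c
    rw [Finsupp.linearCombination_apply, Finsupp.linearCombination_apply, map_finsuppSum,
      Finsupp.sum_mapRange_index (by simp)]
    simp [hv'b]
  refine ⟨b, ?_, ?_⟩
  · rintro c ⟨k, hk⟩
    have h1 : f (Finsupp.linearCombination A b c) = 0 := by
      have h2 := congrArg f hk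
      rw [map_smul, map_zero, ← algebraMap_smul (Localization.Away a)] at h2
      exact (hunit k).smul_eq_zero.mp h2
    rw [hflc] at h1
    have h3 := v'.linearIndependent
    rw [linearIndependent_iff] at h3
    have h4 := h3 _ h1
    ext i
    have h5 := DFunLike.congr_fun h4 i
    simp only [Finsupp.mapRange_apply, Finsupp.zero_apply] at h5
    exact hinj (by rw [h5, Finsupp.zero_apply, map_zero])
  · intro m
    have h1 : f m ∈ Submodule.span (Localization.Away a) (f '' Set.range b) := by
      have : Submodule.span (Localization.Away a) (f '' Set.range b) = ⊤ := by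
        rw [← Set.range_comp]
        have : (f ∘ b) = v' := funext fun i => (hv'b i).symm
        rw [this]; exact v'.span_eq
      rw [this]; trivial
    rw [← Submodule.localized'_span (Localization.Away a) S f, Submodule.mem_localized'] at h1
    obtain ⟨n, hn, s, hs⟩ := h1
    rw [IsLocalizedModule.mk'_eq_iff] at hs
    have h2 : f (n - (s : A) • m) = 0 := by
      rw [map_sub, hs, map_smul, sub_eq_zero]; rfl
    obtain ⟨t, ht⟩ := (IsLocalizedModule.eq_zero_iff S f).mp h2
    obtain ⟨k, hk⟩ := (t * s).2
    have hk' : a ^ k = ((t * s : S) : A) := hk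
    refine ⟨k, ?_⟩
    rw [hk', Submonoid.coe_mul, mul_smul]
    rw [smul_sub, sub_eq_zero] at ht
    have : (t : A) • (s : A) • m = t • n := by rw [ht]; rfl
    rw [this]
    exact Submodule.smul_mem _ _ hn

end Groth.Agent.Helper9.GenFree

namespace Groth.Agent.Helper9.GenFree

universe u

/-- `M` becomes free after inverting one nonzero element of `R` (elementwise form). -/
def HasABasis (R : Type u) [CommRing R] (M : Type u) [AddCommGroup M] [Module R M] : Prop :=
  ∃ a : R, a ≠ 0 ∧ ∃ (ι : Type u) (b : ι → M), IsABasis a b

variable {R : Type u} [CommRing R] {M : Type u} [AddCommGroup M] [Module R M]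

lemma HasABasis.exists_free (h : HasABasis R M) :
    ∃ a : R, a ≠ 0 ∧ Module.Free (Localization.Away a) (LocalizedModule (Submonoid.powers a) M) := by
  obtain ⟨a, ha, ι, b, hb⟩ := h
  exact ⟨a, ha, hb.free_localizedModule⟩

lemma HasABasis.of_free [IsDomain R] {a : R} (ha : a ≠ 0)
    (h : Module.Free (Localization.Away a) (LocalizedModule (Submonoid.powers a) M)) :
    HasABasis R M := by
  obtain ⟨b, hb⟩ := exists_isABasis_of_basis ha (Module.Free.chooseBasis (Localization.Away a)
    (LocalizedModule (Submonoid.powers a) M))
  exact ⟨a, ha, _, b, hb⟩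

lemma HasABasis.of_equiv {M' : Type u} [AddCommGroup M'] [Module R M'] (h : HasABasis R M)
    (e : M ≃ₗ[R] M') : HasABasis R M' := by
  obtain ⟨a, ha, ι, b, hb⟩ := h
  exact ⟨a, ha, ι, _, hb.map e⟩

/-- Finite modules over a Noetherian domain are generically free. -/
theorem HasABasis.of_finite [IsDomain R] [IsNoetherianRing R] [Module.Finite R M] :
    HasABasis R M := by
  have : Module.FinitePresentation R M := Module.finitePresentation_of_finite R M
  obtain ⟨r, hr, hfree, -⟩ := Module.FinitePresentation.exists_free_localizedModule_powers
    (nonZeroDivisors R) (LocalizedModule.mkLinearMap (nonZeroDivisors R) M) (FractionRing R)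
  exact HasABasis.of_free (nonZeroDivisors.ne_zero hr) hfree

end Groth.Agent.Helper9.GenFree
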