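import Mathlib
import Groth.Agent.Lib.Helper9.GenFree.Conv

set_option autoImplicit false

namespace Groth.Agent.Helper9.GenFree

universe u

variable {R : Type u} [CommRing R] {Q : Type u} [AddCommGroup Q] [Module R Q]

/-- index family for the two-step filtration -/
def ιf (ι' ι'' : Type u) : ℕ → Type u
  | 0 => ι'
  | 1 => ι''
  | _ + 2 => PEmpty

/-- vector family for the two-step filtration -/
def bf {ι' ι'' : Type u} (b0 : ι' → Q) (b1 : ι'' → Q) : ∀ k, ιf ι' ι'' k → Q
  | 0 => b0
  | 1 => b1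
  | _ + 2 => PEmpty.elim

/-- filtration for the two-step filtration -/
def Nf (Q' : Submodule R Q) : ℕ → Submodule R Q
  | 0 => ⊥
  | 1 => Q'
  | _ + 2 => ⊤

lemma Nf_mono (Q' : Submodule R Q) : Monotone (Nf Q') := by
  apply monotone_nat_of_le_succ
  intro n
  rcases n with _ | _ | n
  · exact bot_le
  · exact le_top
  · exact le_rfl

theorem IsABasis.of_exact {a : R} (Q' : Submodule R Q) {ι' ι'' : Type u} {b' : ι' → Q'}
    {b'' : ι'' → Q ⧸ Q'} (h' : IsABasis a b') (h'' : IsABasis a b'') :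
    ∃ (ι : Type u) (b : ι → Q), IsABasis a b := by
  classical
  have hlift : ∀ j, ∃ q : Q, Q'.mkQ q = b'' j := fun j => Q'.mkQ_surjective (b'' j)
  choose bl hbl using hlift
  have hlc' : ∀ c : ι' →₀ R, Finsupp.linearCombination R (fun i => (b' i : Q)) c =
      Q'.subtype (Finsupp.linearCombination R b' c) := by
    intro c
    rw [Finsupp.linearCombination_apply, Finsupp.linearCombination_apply, map_finsuppSum]
    simp
  have hlc'' : ∀ c : ι'' →₀ R, Q'.mkQ (Finsupp.linearCombination R bl c) =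
      Finsupp.linearCombination R b'' c := by
    intro c
    rw [Finsupp.linearCombination_apply, Finsupp.linearCombination_apply, map_finsuppSum]
    simp [hbl]
  have key := isABasis_of_filtration a (Nf Q') rfl (Nf_mono Q') (fun m => ⟨2, trivial⟩)
    (ιf ι' ι'') (bf (fun i => (b' i : Q)) bl) ?_ ?_ ?_
  · exact ⟨_, _, key⟩
  · intro k i
    rcases k with _ | _ | k
    · exact (b' i).2
    · trivial
    · exact i.elim
  · intro k
    rcases k with _ | _ | k
    · change ∀ c : ι' →₀ R, (∃ j : ℕ, a ^ j • Finsupp.linearCombination R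
        (fun i => (b' i : Q)) c ∈ (⊥ : Submodule R Q)) → c = 0
      rintro c ⟨j, hj⟩
      apply h'.1 c ⟨j, ?_⟩
      apply Subtype.ext
      rw [Submodule.mem_bot, hlc'] at hj
      rw [Submodule.coe_smul, Submodule.coe_zero, ← hj]
      rfl
    · change ∀ c : ι'' →₀ R, (∃ j : ℕ, a ^ j • Finsupp.linearCombination R bl c ∈ Q') → c = 0
      rintro c ⟨j, hj⟩
      apply h''.1 c ⟨j, ?_⟩
      rw [← Submodule.Quotient.mk_eq_zero, Submodule.Quotient.mk_smul] at hj
      rw [← hj, ← hlc'']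
      rfl
    · intro c _; ext i; exact i.elim
  · intro k
    rcases k with _ | _ | k
    · change ∀ m ∈ Q', ∃ (j : ℕ) (c : ι' →₀ R), a ^ j • m - Finsupp.linearCombination R
        (fun i => (b' i : Q)) c ∈ (⊥ : Submodule R Q)
      intro m hm
      obtain ⟨j, hj⟩ := h'.2 ⟨m, hm⟩
      obtain ⟨c, hc⟩ := (Finsupp.mem_span_range_iff_exists_finsupp).mp hj
      refine ⟨j, c, ?_⟩
      rw [Submodule.mem_bot, sub_eq_zero, hlc']
      have h1 := congrArg Q'.subtype hc
      rw [← Finsupp.linearCombination_apply] at h1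
      rw [h1]
      rfl
    · change ∀ m ∈ (⊤ : Submodule R Q), ∃ (j : ℕ) (c : ι'' →₀ R),
        a ^ j • m - Finsupp.linearCombination R bl c ∈ Q'
      intro m _
      obtain ⟨j, hj⟩ := h''.2 (Q'.mkQ m)
      obtain ⟨c, hc⟩ := (Finsupp.mem_span_range_iff_exists_finsupp).mp hj
      refine ⟨j, c, ?_⟩
      rw [← Submodule.Quotient.mk_eq_zero, Submodule.Quotient.mk_sub, sub_eq_zero,
        Submodule.Quotient.mk_smul]
      change a ^ j • Q'.mkQ m = Q'.mkQ _
      rw [hlc'', ← hc, Finsupp.linearCombination_apply]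
    · intro m _; exact ⟨0, 0, trivial⟩

end Groth.Agent.Helper9.GenFree

namespace Groth.Agent.Helper9.GenFree

universe u

variable {R : Type u} [CommRing R] {Q : Type u} [AddCommGroup Q] [Module R Q]

lemma IsABasis.of_dvd [IsDomain R] {a a' : R} {ι : Type*} {b : ι → Q} (h : IsABasis a b)
    (ha' : a' ≠ 0) (hd : a ∣ a') : IsABasis a' b := by
  obtain ⟨c, rfl⟩ := hd
  exact h.mul (right_ne_zero_of_mul ha')

theorem HasABasis.of_exact [IsDomain R] (Q' : Submodule R Q) (h' : HasABasis R Q')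
    (h'' : HasABasis R (Q ⧸ Q')) : HasABasis R Q := by
  obtain ⟨a', ha', ι', b', hb'⟩ := h'
  obtain ⟨a'', ha'', ι'', b'', hb''⟩ := h''
  obtain ⟨ι, b, hb⟩ := IsABasis.of_exact Q' (hb'.mul ha'') (hb''.mul' ha')
  exact ⟨a' * a'', mul_ne_zero ha' ha'', ι, b, hb⟩

end Groth.Agent.Helper9.GenFree
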