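import Mathlib
import Groth.Agent.Lib.Helper9.GenFree.Exact

set_option autoImplicit false

namespace Groth.Agent.Helper9.GenFree

universe u

variable {R : Type u} [CommRing R] [IsDomain R]

/-- cyclic modules over a domain are generically free -/
lemma hasABasis_of_span_singleton {C : Type u} [AddCommGroup C] [Module R C] (g : C)
    (hg : Submodule.span R {g} = ⊤) : HasABasis R C := by
  classical
  have hmem : ∀ m : C, ∃ s : R, s • g = m := fun m =>
    Submodule.mem_span_singleton.mp (by rw [hg]; trivial)
  by_cases h : ∃ r : R, r ≠ 0 ∧ r • g = 0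
  · obtain ⟨r, hr, hrg⟩ := h
    refine ⟨r, hr, PEmpty, PEmpty.elim, ?_, ?_⟩
    · intro c _; exact Subsingleton.elim _ _
    · intro m
      obtain ⟨s, rfl⟩ := hmem m
      refine ⟨1, ?_⟩
      rw [pow_one, smul_comm, hrg, smul_zero]
      exact Submodule.zero_mem _
  · push Not at h
    refine ⟨1, one_ne_zero, PUnit, fun _ => g, ?_, ?_⟩
    · rintro c ⟨k, hk⟩
      rw [one_pow, one_smul, Finsupp.linearCombination_unique] at hk
      have h1 : c default = 0 := by
        by_contra hne
        exact h _ hne hk
      apply Finsupp.ext
      intro i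
      rw [Subsingleton.elim i default, h1]
      rfl
    · intro m
      obtain ⟨s, rfl⟩ := hmem m
      refine ⟨0, ?_⟩
      rw [pow_zero, one_smul]
      exact Submodule.smul_mem _ _ (Submodule.subset_span ⟨PUnit.unit, rfl⟩)

lemma hasABasis_of_span_range : ∀ (n : ℕ) (L : Type u) [AddCommGroup L] [Module R L]
    (v : Fin n → L), Submodule.span R (Set.range v) = ⊤ → HasABasis R L := by
  intro n
  induction n with
  | zero =>
    intro L _ _ v hv
    apply hasABasis_of_span_singleton (0 : L)
    rw [← hv]
    have : Set.range v = ∅ := Set.range_eq_empty v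
    rw [this, Submodule.span_empty, Submodule.span_singleton_eq_bot]
  | succ n ih =>
    intro L _ _ v hv
    set Q' : Submodule R L := Submodule.span R (Set.range (fun i : Fin n => v i.succ)) with hQ'
    apply HasABasis.of_exact Q'
    · apply ih Q' (fun i => ⟨v i.succ, Submodule.subset_span ⟨i, rfl⟩⟩)
      apply Submodule.map_injective_of_injective Q'.subtype_injective
      rw [Submodule.map_span, Submodule.map_subtype_top, ← Set.range_comp]
      rfl
    · apply hasABasis_of_span_singleton (Q'.mkQ (v 0))
      rw [eq_top_iff, ← (Submodule.map_mkQ_eq_top (p := Q') (p' := ⊤)).mpr (by simp), ← hv,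
        Submodule.map_span, Submodule.span_le]
      rintro _ ⟨_, ⟨i, rfl⟩, rfl⟩
      refine Fin.cases ?_ (fun j => ?_) i
      · exact Submodule.subset_span rfl
      · have : Q'.mkQ (v j.succ) = 0 :=
          (Submodule.Quotient.mk_eq_zero Q').mpr (Submodule.subset_span ⟨j, rfl⟩)
        rw [this]
        exact Submodule.zero_mem _

/-- Finite modules over a domain are generically free. -/
theorem HasABasis.of_finite_domain {L : Type u} [AddCommGroup L] [Module R L] [Module.Finite R L] :
    HasABasis R L := by
  obtain ⟨n, v, hv⟩ := Module.Finite.exists_fin (R := R) (M := L)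
  exact hasABasis_of_span_range n L v hv

end Groth.Agent.Helper9.GenFree
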