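import Mathlib
import Groth.Agent.Lib.Helper9.GenFree.Exact

set_option autoImplicit false

namespace Groth.Agent.Helper9.GenFree

universe u

section Step

variable {R : Type u} [CommRing R]
variable {B' : Type u} [CommRing B'] [Algebra R B']
variable {N : Type u} [AddCommGroup N] [Module B' N] [Module R N] [IsScalarTower R B' N]

/-- `P X N₀ k = ∑_{j<k} X^j N₀`. -/
def P (X : N →ₗ[B'] N) (N₀ : Submodule B' N) : ℕ → Submodule B' N
  | 0 => ⊥
  | k + 1 => P X N₀ k ⊔ N₀.map (X ^ k)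

variable (X : N →ₗ[B'] N) (N₀ : Submodule B' N)

lemma P_zero : P X N₀ 0 = ⊥ := rfl
lemma P_succ (k : ℕ) : P X N₀ (k + 1) = P X N₀ k ⊔ N₀.map (X ^ k) := rfl

lemma P_one : P X N₀ 1 = N₀ := by
  rw [P_succ, P_zero, bot_sup_eq, pow_zero]
  exact Submodule.map_id N₀

lemma P_mono : Monotone (P X N₀) :=
  monotone_nat_of_le_succ fun k => by rw [P_succ]; exact le_sup_left

lemma le_P_succ (k : ℕ) : N₀ ≤ P X N₀ (k + 1) := by
  have h := P_mono X N₀ (show 1 ≤ k + 1 by omega)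
  rwa [P_one] at h

lemma map_P_le (k : ℕ) : (P X N₀ k).map X ≤ P X N₀ (k + 1) := by
  induction k with
  | zero => rw [P_zero, Submodule.map_bot]; exact bot_le
  | succ k ih =>
    rw [P_succ, Submodule.map_sup, P_succ X N₀ (k + 1)]
    refine sup_le_sup ih ?_
    rw [← Submodule.map_comp, pow_succ']
    rfl

/-- The submodule of `N₀` of elements `n` with `X^(k+1) n ∈ P (k+1)`. -/
def W (k : ℕ) : Submodule B' N₀ :=
  (P X N₀ (k + 1)).comap ((X ^ (k + 1)).comp N₀.subtype)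

lemma mem_W (k : ℕ) (n : N₀) : n ∈ W X N₀ k ↔ (X ^ (k + 1)) (n : N) ∈ P X N₀ (k + 1) := Iff.rfl

lemma W_mono : Monotone (W X N₀) := by
  apply monotone_nat_of_le_succ
  intro k n hn
  rw [mem_W] at hn ⊢
  rw [pow_succ' X (k + 1)]
  exact map_P_le X N₀ (k + 1) (Submodule.mem_map_of_mem hn)

/-- The filtration of `N ⧸ N₀`. -/
def F (k : ℕ) : Submodule R (N ⧸ N₀) :=
  ((P X N₀ (k + 1)).map N₀.mkQ).restrictScalars R

/-- The `R`-linear map `n ↦ [X^(k+1) n]` from `N₀` to `N ⧸ N₀`. -/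
def T (k : ℕ) : N₀ →ₗ[R] N ⧸ N₀ :=
  (N₀.mkQ.comp ((X ^ (k + 1)).comp N₀.subtype)).restrictScalars R

lemma T_apply (k : ℕ) (n : N₀) : T (R := R) X N₀ k n = N₀.mkQ ((X ^ (k + 1)) (n : N)) := rfl

lemma mem_F_iff (k : ℕ) (q : N) : N₀.mkQ q ∈ F (R := R) X N₀ k ↔ q ∈ P X N₀ (k + 1) := by
  constructor
  · intro h
    rw [F, Submodule.restrictScalars_mem] at h
    obtain ⟨p, hp, hpq⟩ := h
    have h1 : p - q ∈ N₀ := by
      rw [← Submodule.Quotient.mk_eq_zero, Submodule.Quotient.mk_sub, sub_eq_zero]; exact hpq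
    have h2 : q = p - (p - q) := by abel
    rw [h2]
    exact Submodule.sub_mem _ hp (le_P_succ X N₀ k h1)
  · intro h
    exact Submodule.mem_map_of_mem h

lemma T_mem_F_iff (k : ℕ) (n : N₀) : T (R := R) X N₀ k n ∈ F (R := R) X N₀ k ↔ n ∈ W X N₀ k := by
  rw [T_apply, mem_F_iff, mem_W]

lemma F_zero : F (R := R) X N₀ 0 = ⊥ := by
  rw [F, P_one, eq_bot_iff]
  rintro _ ⟨n, hn, rfl⟩
  rw [Submodule.mem_bot]
  exact (Submodule.Quotient.mk_eq_zero N₀).mpr hn

lemma F_mono : Monotone (F (R := R) X N₀) := fun i j hij => by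
  intro q hq
  obtain ⟨p, hp, rfl⟩ := hq
  exact Submodule.mem_map_of_mem (P_mono X N₀ (by omega : i + 1 ≤ j + 1) hp)

/-- every finite `B'`-module is generically free over `R` -/
def GoodRing (R B' : Type u) [CommRing R] [CommRing B'] [Algebra R B'] : Prop :=
  ∀ (L : Type u) [AddCommGroup L] [Module B' L] [Module R L] [IsScalarTower R B' L]
    [Module.Finite B' L], HasABasis R L

theorem hasABasis_quotient_of_step [IsDomain R] [IsNoetherianRing B'] (hB' : GoodRing R B')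
    (hfg : N₀.FG) (hex : ∀ n : N, ∃ k, n ∈ P X N₀ k) : HasABasis R (N ⧸ N₀) := by
  classical
  have : Module.Finite B' N₀ := Module.Finite.iff_fg.mpr hfg
  have : IsNoetherian B' N₀ := isNoetherian_of_isNoetherianRing_of_finite B' N₀
  obtain ⟨k0, hk0⟩ := monotone_stabilizes_iff_noetherian.mpr ‹IsNoetherian B' N₀›
    ⟨W X N₀, W_mono X N₀⟩
  have hgood : ∀ k, HasABasis R (N₀ ⧸ W X N₀ k) := fun k => hB' _
  choose a ha ι β hβ using hgood
  set α : R := ∏ k ∈ Finset.range (k0 + 1), a k with hα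
  have hα0 : α ≠ 0 := Finset.prod_ne_zero_iff.mpr fun k _ => ha k
  have hβ' : ∀ k, k ≤ k0 → IsABasis α (β k) := fun k hk =>
    (hβ k).of_dvd hα0 (Finset.dvd_prod_of_mem a (Finset.mem_range.mpr (by omega)))
  -- lifts
  have hlift : ∀ k (i : ι k), ∃ n : N₀, (W X N₀ k).mkQ n = β k i :=
    fun k i => (W X N₀ k).mkQ_surjective _
  choose βt hβt using hlift
  have hlc : ∀ k (c : ι k →₀ R), (W X N₀ k).mkQ (Finsupp.linearCombination R (βt k) c) =
      Finsupp.linearCombination R (β k) c := by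
    intro k c
    rw [Finsupp.linearCombination_apply, Finsupp.linearCombination_apply, map_finsuppSum]
    simp [hβt]
  -- reformulated basis properties for k ≤ k0
  have hLI0 : ∀ k, k ≤ k0 → ∀ c : ι k →₀ R,
      (∃ j : ℕ, α ^ j • Finsupp.linearCombination R (βt k) c ∈ W X N₀ k) → c = 0 := by
    rintro k hk c ⟨j, hj⟩
    apply (hβ' k hk).1 c ⟨j, ?_⟩
    rw [← hlc, ← (Submodule.Quotient.mk_eq_zero _).mpr hj]
    rfl
  have hSP0 : ∀ k, k ≤ k0 → ∀ n : N₀, ∃ (j : ℕ) (c : ι k →₀ R),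
      α ^ j • n - Finsupp.linearCombination R (βt k) c ∈ W X N₀ k := by
    intro k hk n
    obtain ⟨j, hj⟩ := (hβ' k hk).2 ((W X N₀ k).mkQ n)
    obtain ⟨c, hc⟩ := (Finsupp.mem_span_range_iff_exists_finsupp).mp hj
    refine ⟨j, c, ?_⟩
    rw [← Submodule.Quotient.mk_eq_zero, Submodule.Quotient.mk_sub, sub_eq_zero]
    change (W X N₀ k).mkQ (α ^ j • n) = (W X N₀ k).mkQ _
    rw [hlc, ← Finsupp.linearCombination_apply] at *
    rw [hc]
    rfl
  -- for all k
  have hWmin : ∀ k, W X N₀ (min k k0) = W X N₀ k := by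
    intro k
    rcases le_total k k0 with h | h
    · rw [min_eq_left h]
    · rw [min_eq_right h]; exact hk0 k h
  have hLI1 : ∀ k, ∀ c : ι (min k k0) →₀ R,
      (∃ j : ℕ, α ^ j • Finsupp.linearCombination R (βt (min k k0)) c ∈ W X N₀ k) → c = 0 := by
    intro k c hc
    rw [← hWmin k] at hc
    exact hLI0 _ (min_le_right _ _) c hc
  have hSP1 : ∀ k, ∀ n : N₀, ∃ (j : ℕ) (c : ι (min k k0) →₀ R),
      α ^ j • n - Finsupp.linearCombination R (βt (min k k0)) c ∈ W X N₀ k := by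
    intro k n
    rw [← hWmin k]
    exact hSP0 _ (min_le_right _ _) n
  -- the families in the quotient
  have hTlc : ∀ k (c : ι (min k k0) →₀ R),
      Finsupp.linearCombination R (fun i => T (R := R) X N₀ k (βt (min k k0) i)) c =
      T (R := R) X N₀ k (Finsupp.linearCombination R (βt (min k k0)) c) := by
    intro k c
    rw [Finsupp.apply_linearCombination]
    rfl
  have key := isABasis_of_filtration α (F (R := R) X N₀) (F_zero X N₀) (F_mono X N₀) ?_
    (fun k => ι (min k k0)) (fun k i => T (R := R) X N₀ k (βt (min k k0) i)) ?_ ?_ ?_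
  · exact ⟨α, hα0, _, _, key⟩
  · intro q
    obtain ⟨n, rfl⟩ := N₀.mkQ_surjective q
    obtain ⟨k, hk⟩ := hex n
    exact ⟨k, (mem_F_iff X N₀ k n).mpr (P_mono X N₀ (Nat.le_succ k) hk)⟩
  · intro k i
    rw [T_apply, mem_F_iff, P_succ X N₀ (k + 1)]
    exact Submodule.mem_sup_right (Submodule.mem_map_of_mem (βt (min k k0) i).2)
  · rintro k c ⟨j, hj⟩
    rw [hTlc, ← map_smul, T_mem_F_iff] at hj
    exact hLI1 k c ⟨j, hj⟩
  · intro k m hm
    obtain ⟨p, rfl⟩ := N₀.mkQ_surjective m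
    rw [mem_F_iff, P_succ X N₀ (k + 1)] at hm
    obtain ⟨p', hp', y, hy, rfl⟩ := Submodule.mem_sup.mp hm
    obtain ⟨n, hn, rfl⟩ := hy
    obtain ⟨j, c, hjc⟩ := hSP1 k ⟨n, hn⟩
    refine ⟨j, c, ?_⟩
    rw [hTlc]
    have h1 : α ^ j • N₀.mkQ (p' + (X ^ (k + 1)) n) - T (R := R) X N₀ k
        (Finsupp.linearCombination R (βt (min k k0)) c) =
        α ^ j • N₀.mkQ p' + T (R := R) X N₀ k
          (α ^ j • ⟨n, hn⟩ - Finsupp.linearCombination R (βt (min k k0)) c) := by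
      rw [map_sub, map_smul, map_add, smul_add]
      have h2 : T (R := R) X N₀ k ⟨n, hn⟩ = N₀.mkQ ((X ^ (k + 1)) n) := rfl
      rw [h2]
      abel
    rw [h1]
    refine Submodule.add_mem _ (Submodule.smul_mem _ _ ((mem_F_iff X N₀ k p').mpr hp')) ?_
    exact (T_mem_F_iff X N₀ k _).mpr hjc

end Step

end Groth.Agent.Helper9.GenFree
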