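import Mathlib
import Groth.Agent.Lib.Helper9.GenFree.Step

set_option autoImplicit false

namespace Groth.Agent.Helper9.GenFree

universe u

/-- exact-sequence form of `HasABasis.of_exact` -/
theorem HasABasis.of_exact' {R : Type u} [CommRing R] [IsDomain R] {Q₁ Q Q₂ : Type u}
    [AddCommGroup Q₁] [Module R Q₁] [AddCommGroup Q] [Module R Q] [AddCommGroup Q₂] [Module R Q₂]
    (f : Q₁ →ₗ[R] Q) (g : Q →ₗ[R] Q₂) (hf : Function.Injective f) (hg : Function.Surjective g)
    (hfg : LinearMap.range f = LinearMap.ker g) (h₁ : HasABasis R Q₁) (h₂ : HasABasis R Q₂) :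
    HasABasis R Q := by
  apply HasABasis.of_exact (LinearMap.range f)
  · exact h₁.of_equiv (LinearEquiv.ofInjective f hf)
  · rw [hfg]
    exact h₂.of_equiv (g.quotKerEquivOfSurjective hg).symm

section Exhaust

variable {A₀ B : Type u} [CommRing A₀] [CommRing B] [Algebra A₀ B]
variable {N : Type u} [AddCommGroup N] [Module B N]

/-- multiplication by `x` as a linear map over a subalgebra -/
def mulX (B' : Subalgebra A₀ B) (x : B) : N →ₗ[B'] N where
  toFun n := x • n
  map_add' := smul_add x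
  map_smul' b n := by
    simp only [RingHom.id_apply, Subalgebra.smul_def, smul_smul, mul_comm]

@[simp] lemma mulX_apply (B' : Subalgebra A₀ B) (x : B) (n : N) : mulX B' x n = x • n := rfl

lemma exhaust [Module A₀ N] [IsScalarTower A₀ B N] (s' : Set B) (x : B)
    (hadj : Algebra.adjoin A₀ (insert x s') = ⊤) (B' : Subalgebra A₀ B) (hs' : s' ⊆ B')
    (T : Set N) (hT : Submodule.span B T = ⊤) (N₀ : Submodule B' N)
    (hTN : T ⊆ N₀) (n : N) : ∃ k, n ∈ P (mulX B' x) N₀ k := by
  set X : N →ₗ[B'] N := mulX B' x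
  have hU : ∀ m : N, (m ∈ ⨆ k, P X N₀ k) ↔ ∃ k, m ∈ P X N₀ k :=
    fun m => Submodule.mem_iSup_of_chain ⟨P X N₀, P_mono X N₀⟩ m
  have hX : ∀ m : N, (∃ k, m ∈ P X N₀ k) → ∃ k, x • m ∈ P X N₀ k := by
    rintro m ⟨k, hk⟩
    exact ⟨k + 1, map_P_le X N₀ k (Submodule.mem_map_of_mem hk)⟩
  have hall : ∀ b : B, ∀ m : N, (∃ k, m ∈ P X N₀ k) → ∃ k, b • m ∈ P X N₀ k := by
    intro b
    have hb : b ∈ Algebra.adjoin A₀ (insert x s') := by rw [hadj]; trivial
    induction hb using Algebra.adjoin_induction with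
    | mem y hy =>
      rcases hy with rfl | hy
      · exact hX
      · rintro m ⟨k, hk⟩
        exact ⟨k, (P X N₀ k).smul_mem (⟨y, hs' hy⟩ : B') hk⟩
    | algebraMap r =>
      rintro m ⟨k, hk⟩
      refine ⟨k, ?_⟩
      have : (algebraMap A₀ B r) • m = (algebraMap A₀ B' r) • m := rfl
      rw [this]
      exact (P X N₀ k).smul_mem _ hk
    | add y z _ _ hy hz =>
      intro m hm
      obtain ⟨k₁, h₁⟩ := hy m hm
      obtain ⟨k₂, h₂⟩ := hz m hm
      refine ⟨max k₁ k₂, ?_⟩
      rw [add_smul]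
      exact Submodule.add_mem _ (P_mono X N₀ (le_max_left _ _) h₁)
        (P_mono X N₀ (le_max_right _ _) h₂)
    | mul y z _ _ hy hz =>
      intro m hm
      rw [mul_smul]
      exact hy _ (hz m hm)
  have hn : n ∈ Submodule.span B T := by rw [hT]; trivial
  induction hn using Submodule.span_induction with
  | mem m hm => exact ⟨1, by rw [P_one]; exact hTN hm⟩
  | zero => exact ⟨0, Submodule.zero_mem _⟩
  | add y z _ _ hy hz =>
    obtain ⟨k₁, h₁⟩ := hy
    obtain ⟨k₂, h₂⟩ := hz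
    exact ⟨max k₁ k₂, Submodule.add_mem _ (P_mono X N₀ (le_max_left _ _) h₁)
        (P_mono X N₀ (le_max_right _ _) h₂)⟩
  | smul b m _ hm => exact hall b m hm

end Exhaust

end Groth.Agent.Helper9.GenFree
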