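import Mathlib
import Groth.Agent.Lib.Helper9.GenFree.Exact

set_option autoImplicit false

namespace Groth.Agent.Helper9.GenFree

universe u

section GenNoeth

variable (R : Type u) [CommRing R] (B : Type u) [CommRing B]
variable (L : Type u) [AddCommGroup L] [Module B L] [Module R L]

/-- generic finite generation of submodules -/
def GenFG : Prop :=
  ∀ W : Submodule B L, ∃ W₀ : Submodule B L, W₀ ≤ W ∧ W₀.FG ∧
    ∀ w ∈ W, ∃ r : R, r ≠ 0 ∧ r • w ∈ W₀

/-- generic ascending chain condition -/
def GenNoeth : Prop :=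
  ∀ W : ℕ →o Submodule B L, ∃ k0, ∀ k, k0 ≤ k → ∀ w ∈ W k, ∃ r : R, r ≠ 0 ∧ r • w ∈ W k0

variable {R B L}

lemma GenFG.genNoeth (h : GenFG R B L) : GenNoeth R B L := by
  classical
  intro W
  obtain ⟨W₀, hle, ⟨t, ht⟩, hW₀⟩ := h (⨆ k, W k)
  have hmem : ∀ m : L, (m ∈ ⨆ k, W k) ↔ ∃ k, m ∈ W k := fun m => Submodule.mem_iSup_of_chain W m
  have h1 : ∀ x ∈ t, ∃ k, x ∈ W k := fun x hx =>
    (hmem x).mp (hle (ht ▸ Submodule.subset_span hx))
  choose! kf hkf using h1
  refine ⟨t.sup kf, fun k hk w hw => ?_⟩
  obtain ⟨r, hr, hrw⟩ := hW₀ w ((hmem w).mpr ⟨k, hw⟩)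
  refine ⟨r, hr, ?_⟩
  have h2 : W₀ ≤ W (t.sup kf) := by
    rw [← ht, Submodule.span_le]
    intro x hx
    exact W.monotone (Finset.le_sup hx) (hkf x hx)
  exact h2 hrw

theorem genFG_of_finiteType [Algebra R B] [IsScalarTower R B L] [IsDomain R]
    [Algebra.FiniteType R B] [Module.Finite B L] :
    GenFG R B L := by
  classical
  intro W
  set T : Submonoid B := (nonZeroDivisors R).map (algebraMap R B) with hT
  -- the localized ring is Noetherian
  have hNoeth : IsNoetherianRing (Localization T) := by
    have h1 : (algebraMap R B).FiniteType := RingHom.finiteType_algebraMap.mpr inferInstance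
    have h2 := RingHom.finiteType_localizationPreserves (algebraMap R B) (nonZeroDivisors R)
      (FractionRing R) (Localization T) h1
    set φ : FractionRing R →+* Localization T :=
      IsLocalization.map (M := nonZeroDivisors R) (Localization T) (algebraMap R B)
        (Submonoid.le_comap_map _) with hφ
    algebraize [φ]
    exact Algebra.FiniteType.isNoetherianRing (FractionRing R) (Localization T)
  set f := LocalizedModule.mkLinearMap T L with hf
  have hfin : Module.Finite (Localization T) (LocalizedModule T L) :=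
    Module.Finite.of_isLocalizedModule T f
  have hN : IsNoetherian (Localization T) (LocalizedModule T L) :=
    isNoetherian_of_isNoetherianRing_of_finite _ _
  have hfg : (W.localized' (Localization T) T f).FG := IsNoetherian.noetherian _
  rw [Submodule.localized'_eq_span, Submodule.fg_span_iff_fg_span_finset_subset] at hfg
  obtain ⟨t', ht'sub, ht'⟩ := hfg
  obtain ⟨t, htW, rfl⟩ := Finset.subset_set_image_iff.mp ht'sub
  refine ⟨Submodule.span B (t : Set L), Submodule.span_le.mpr htW, ⟨t, rfl⟩, fun w hw => ?_⟩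
  have h1 : f w ∈ Submodule.span (Localization T) (f '' (W : Set L)) :=
    Submodule.subset_span ⟨w, hw, rfl⟩
  rw [ht', Finset.coe_image, ← Submodule.localized'_span (Localization T) T f,
    Submodule.mem_localized'] at h1
  obtain ⟨m, hm, s, hs⟩ := h1
  rw [IsLocalizedModule.mk'_eq_iff] at hs
  have h2 : f m = f ((s : B) • w) := by rw [hs, map_smul]; rfl
  obtain ⟨c, hc⟩ := (IsLocalizedModule.eq_iff_exists T f).mp h2
  obtain ⟨r, hr, hrcs⟩ := (c * s).2
  refine ⟨r, nonZeroDivisors.ne_zero hr, ?_⟩
  rw [← algebraMap_smul B r w, hrcs, Submonoid.coe_mul, mul_smul]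
  have : (c : B) • (s : B) • w = c • m := by rw [hc]; rfl
  rw [this]
  exact Submodule.smul_mem _ _ hm

end GenNoeth

end Groth.Agent.Helper9.GenFree
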