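import Mathlib
import Groth.Agent.Lib.Helper9.GenFree.Step
import Groth.Agent.Lib.Helper9.GenFree.GenNoeth

set_option autoImplicit false

namespace Groth.Agent.Helper9.GenFree

universe u

section Step

variable {R : Type u} [CommRing R]
variable {B' : Type u} [CommRing B'] [Algebra R B']
variable {N : Type u} [AddCommGroup N] [Module B' N] [Module R N] [IsScalarTower R B' N]
variable (X : N →ₗ[B'] N) (N₀ : Submodule B' N)

theorem hasABasis_quotient_of_step' [IsDomain R] (hB' : GoodRing R B')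
    (hGN : GenNoeth R B' N₀) (hfg : N₀.FG) (hex : ∀ n : N, ∃ k, n ∈ P X N₀ k) : HasABasis R (N ⧸ N₀) := by
  classical
  have : Module.Finite B' N₀ := Module.Finite.iff_fg.mpr hfg
  obtain ⟨k0, hk0⟩ := hGN ⟨W X N₀, W_mono X N₀⟩
  replace hk0 : ∀ k, k0 ≤ k → ∀ w ∈ W X N₀ k, ∃ r : R, r ≠ 0 ∧ r • w ∈ W X N₀ k0 := hk0
  have hgood : ∀ k, HasABasis R (N₀ ⧸ W X N₀ k) := fun k => hB' _
  choose a ha ι β hβ using hgood
  set α : R := ∏ k ∈ Finset.range (k0 + 1), a k with hα
  have hα0 : α ≠ 0 := Finset.prod_ne_zero_iff.mpr fun k _ => ha k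
  have hβ' : ∀ k, k ≤ k0 → IsABasis α (β k) := fun k hk =>
    (hβ k).of_dvd hα0 (Finset.dvd_prod_of_mem a (Finset.mem_range.mpr (by omega)))
  -- lifts
  have hlift : ∀ k (i : ι k), ∃ n : N₀, (W X N₀ k).mkQ n = β k i :=
    fun k i => (W X N₀ k).mkQ_surjective _
  choose βt hβt using hlift
  have hlc : ∀ k (c : ι k →₀ R), (W X N₀ k).mkQ (Finsupp.linearCombination R (βt k) c) =
      Finsupp.linearCombination R (β k) c := by
    intro k c
    rw [Finsupp.linearCombination_apply, Finsupp.linearCombination_apply, map_finsuppSum]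
    simp [hβt]
  -- reformulated basis properties for k ≤ k0
  have hLI0 : ∀ k, k ≤ k0 → ∀ c : ι k →₀ R,
      (∃ j : ℕ, α ^ j • Finsupp.linearCombination R (βt k) c ∈ W X N₀ k) → c = 0 := by
    rintro k hk c ⟨j, hj⟩
    apply (hβ' k hk).1 c ⟨j, ?_⟩
    rw [← hlc, ← (Submodule.Quotient.mk_eq_zero _).mpr hj]
    rfl
  have hSP0 : ∀ k, k ≤ k0 → ∀ n : N₀, ∃ (j : ℕ) (c : ι k →₀ R),
      α ^ j • n - Finsupp.linearCombination R (βt k) c ∈ W X N₀ k := by
    intro k hk n
    obtain ⟨j, hj⟩ := (hβ' k hk).2 ((W X N₀ k).mkQ n)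
    obtain ⟨c, hc⟩ := (Finsupp.mem_span_range_iff_exists_finsupp).mp hj
    refine ⟨j, c, ?_⟩
    rw [← Submodule.Quotient.mk_eq_zero, Submodule.Quotient.mk_sub, sub_eq_zero]
    change (W X N₀ k).mkQ (α ^ j • n) = (W X N₀ k).mkQ _
    rw [hlc, ← Finsupp.linearCombination_apply] at *
    rw [hc]
    rfl
  -- for all k
  have hLI1 : ∀ k, ∀ c : ι (min k k0) →₀ R,
      (∃ j : ℕ, α ^ j • Finsupp.linearCombination R (βt (min k k0)) c ∈ W X N₀ k) → c = 0 := by
    rintro k c ⟨j, hj⟩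
    rcases le_total k k0 with h | h
    · have hW : W X N₀ (min k k0) = W X N₀ k := by rw [min_eq_left h]
      apply hLI0 _ (min_le_right _ _) c ⟨j, ?_⟩
      rw [hW]; exact hj
    · have hW : W X N₀ (min k k0) = W X N₀ k0 := by rw [min_eq_right h]
      obtain ⟨r, hr, hrw⟩ := hk0 k h _ hj
      have h3 : r • c = 0 := by
        apply hLI0 _ (min_le_right _ _) (r • c) ⟨j, ?_⟩
        rw [hW, map_smul, smul_comm]
        exact hrw
      ext i
      have h4 := DFunLike.congr_fun h3 i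
      simp only [Finsupp.smul_apply, smul_eq_mul, Finsupp.zero_apply, mul_eq_zero] at h4
      exact h4.resolve_left hr
  have hSP1 : ∀ k, ∀ n : N₀, ∃ (j : ℕ) (c : ι (min k k0) →₀ R),
      α ^ j • n - Finsupp.linearCombination R (βt (min k k0)) c ∈ W X N₀ k := by
    intro k n
    obtain ⟨j, c, hjc⟩ := hSP0 _ (min_le_right k k0) n
    exact ⟨j, c, W_mono X N₀ (min_le_left k k0) hjc⟩
  -- the families in the quotient
  have hTlc : ∀ k (c : ι (min k k0) →₀ R),
      Finsupp.linearCombination R (fun i => T (R := R) X N₀ k (βt (min k k0) i)) c =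
      T (R := R) X N₀ k (Finsupp.linearCombination R (βt (min k k0)) c) := by
    intro k c
    rw [Finsupp.apply_linearCombination]
    rfl
  have key := isABasis_of_filtration α (F (R := R) X N₀) (F_zero X N₀) (F_mono X N₀) ?_
    (fun k => ι (min k k0)) (fun k i => T (R := R) X N₀ k (βt (min k k0) i)) ?_ ?_ ?_
  · exact ⟨α, hα0, _, _, key⟩
  · intro q
    obtain ⟨n, rfl⟩ := N₀.mkQ_surjective q
    obtain ⟨k, hk⟩ := hex n
    exact ⟨k, (mem_F_iff X N₀ k n).mpr (P_mono X N₀ (Nat.le_succ k) hk)⟩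
  · intro k i
    rw [T_apply, mem_F_iff, P_succ X N₀ (k + 1)]
    exact Submodule.mem_sup_right (Submodule.mem_map_of_mem (βt (min k k0) i).2)
  · rintro k c ⟨j, hj⟩
    rw [hTlc, ← map_smul, T_mem_F_iff] at hj
    exact hLI1 k c ⟨j, hj⟩
  · intro k m hm
    obtain ⟨p, rfl⟩ := N₀.mkQ_surjective m
    rw [mem_F_iff, P_succ X N₀ (k + 1)] at hm
    obtain ⟨p', hp', y, hy, rfl⟩ := Submodule.mem_sup.mp hm
    obtain ⟨n, hn, rfl⟩ := hy
    obtain ⟨j, c, hjc⟩ := hSP1 k ⟨n, hn⟩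
    refine ⟨j, c, ?_⟩
    rw [hTlc]
    have h1 : α ^ j • N₀.mkQ (p' + (X ^ (k + 1)) n) - T (R := R) X N₀ k
        (Finsupp.linearCombination R (βt (min k k0)) c) =
        α ^ j • N₀.mkQ p' + T (R := R) X N₀ k
          (α ^ j • ⟨n, hn⟩ - Finsupp.linearCombination R (βt (min k k0)) c) := by
      rw [map_sub, map_smul, map_add, smul_add]
      have h2 : T (R := R) X N₀ k ⟨n, hn⟩ = N₀.mkQ ((X ^ (k + 1)) n) := rfl
      rw [h2]
      abel
    rw [h1]
    refine Submodule.add_mem _ (Submodule.smul_mem _ _ ((mem_F_iff X N₀ k p').mpr hp')) ?_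
    exact (T_mem_F_iff X N₀ k _).mpr hjc

end Step

end Groth.Agent.Helper9.GenFree
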