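import Mathlib
import Groth.Agent.Lib.Helper9.GenFree.Main
import Groth.Agent.Lib.Helper9.GenFree.Step2
import Groth.Agent.Lib.Helper9.GenFree.Base

set_option autoImplicit false

namespace Groth.Agent.Helper9.GenFree

universe u

section Induction

variable {R : Type u} [CommRing R] {A₀ : Type u} [CommRing A₀] [Algebra R A₀]

/-- the induction step -/
lemma goodPair_step' [IsDomain R] [Algebra.FiniteType R A₀] {B : Type u} [CommRing B]
    [Algebra A₀ B] [Algebra R B] [IsScalarTower R A₀ B] (s' : Finset B) (x : B)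
    (hadj : Algebra.adjoin A₀ (insert x (s' : Set B)) = ⊤)
    (hB' : GoodPair R A₀ (Algebra.adjoin A₀ (s' : Set B))) : GoodPair R A₀ B := by
  classical
  intro N _ _ _ _ _ _ _ _ M' hM'
  set B' := Algebra.adjoin A₀ (s' : Set B) with hB'def
  have hFT : Algebra.FiniteType A₀ B' := ⟨Subalgebra.fg_top _ |>.mpr (Subalgebra.fg_adjoin_finset s')⟩
  have hFT' : Algebra.FiniteType R B' := Algebra.FiniteType.trans (S := A₀) inferInstance hFT
  obtain ⟨T₁, hT₁⟩ := (Module.Finite.fg_top : (⊤ : Submodule B N).FG)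
  obtain ⟨T₂, hT₂⟩ := hM'
  set N₀ : Submodule B' N := Submodule.span B' ((T₁ ∪ T₂ : Finset N) : Set N) with hN₀
  have hN₀fg : N₀.FG := ⟨T₁ ∪ T₂, rfl⟩
  have hM'N₀ : ∀ m ∈ M', m ∈ N₀ := by
    intro m hm
    rw [← hT₂] at hm
    have h1 : Submodule.span A₀ (T₂ : Set N) ≤ N₀.restrictScalars A₀ := by
      rw [Submodule.span_le]
      intro t ht
      exact Submodule.subset_span (by simp [ht])
    exact h1 hm
  have hex : ∀ n : N, ∃ k, n ∈ P (mulX B' x) N₀ k := by
    apply exhaust (s' : Set B) x hadj B' Algebra.subset_adjoin (T₁ : Set N) hT₁ N₀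
    intro t ht
    exact Submodule.subset_span (by simp [ht])
  have hfinN₀ : Module.Finite B' N₀ := Module.Finite.iff_fg.mpr hN₀fg
  have h2 : HasABasis R (N ⧸ N₀) :=
    hasABasis_quotient_of_step' (mulX B' x) N₀ hB'.goodRing
      (genFG_of_finiteType (R := R) (B := B') (L := N₀)).genNoeth hN₀fg hex
  -- the first step
  set ιN₀ : N₀ →ₗ[A₀] N := N₀.subtype.restrictScalars A₀ with hιN₀
  set M'₀ : Submodule A₀ N₀ := M'.comap ιN₀ with hM'₀
  have hM'₀fg : M'₀.FG := by
    apply Submodule.fg_of_fg_map_injective ιN₀ (Subtype.val_injective)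
    rw [hM'₀, Submodule.map_comap_eq, inf_eq_right.mpr]
    · exact ⟨T₂, hT₂⟩
    · intro m hm
      exact ⟨⟨m, hM'N₀ m hm⟩, rfl⟩
  have : Module.Finite B' N₀ := Module.Finite.iff_fg.mpr hN₀fg
  have h1 : HasABasis R (N₀ ⧸ M'₀) := hB' N₀ M'₀ hM'₀fg
  -- exact sequence
  let f : (N₀ ⧸ M'₀) →ₗ[R] (N ⧸ M') := (Submodule.mapQ M'₀ M' ιN₀ le_rfl).restrictScalars R
  let g : (N ⧸ M') →ₗ[R] (N ⧸ N₀) :=
    (Submodule.liftQ M' (N₀.mkQ.restrictScalars A₀) (fun m hm => by
      rw [LinearMap.mem_ker]
      exact (Submodule.Quotient.mk_eq_zero N₀).mpr (hM'N₀ m hm))).restrictScalars R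
  refine HasABasis.of_exact' f g ?_ ?_ ?_ h1 h2
  · rw [← LinearMap.ker_eq_bot, eq_bot_iff]
    intro q hq
    obtain ⟨n, rfl⟩ := M'₀.mkQ_surjective q
    rw [LinearMap.mem_ker] at hq
    rw [Submodule.mem_bot]
    have h3 : f (M'₀.mkQ n) = M'.mkQ (n : N) := rfl
    rw [h3] at hq
    have h4 : (n : N) ∈ M' := (Submodule.Quotient.mk_eq_zero M').mp hq
    exact (Submodule.Quotient.mk_eq_zero M'₀).mpr h4
  · intro q
    obtain ⟨n, rfl⟩ := N₀.mkQ_surjective q
    exact ⟨M'.mkQ n, rfl⟩
  · ext q
    obtain ⟨n, rfl⟩ := M'.mkQ_surjective q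
    have h5 : g (M'.mkQ n) = N₀.mkQ n := rfl
    rw [LinearMap.mem_ker, h5]
    constructor
    · rintro ⟨q₁, hq₁⟩
      obtain ⟨n₁, rfl⟩ := M'₀.mkQ_surjective q₁
      have h3 : f (M'₀.mkQ n₁) = M'.mkQ (n₁ : N) := rfl
      rw [h3] at hq₁
      have h6 : (n₁ : N) - n ∈ M' := by
        rw [← Submodule.Quotient.mk_eq_zero, Submodule.Quotient.mk_sub, sub_eq_zero]
        exact hq₁
      have h7 : n = n₁ - ((n₁ : N) - n) := by abel
      rw [h7]
      exact (Submodule.Quotient.mk_eq_zero N₀).mpr
        (N₀.sub_mem n₁.2 (hM'N₀ _ h6))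
    · intro hn
      have hn' : n ∈ N₀ := (Submodule.Quotient.mk_eq_zero N₀).mp hn
      exact ⟨M'₀.mkQ ⟨n, hn'⟩, rfl⟩

theorem goodPair_of_card' [IsDomain R] [Algebra.FiniteType R A₀] (hA₀ : GoodRing R A₀) :
    ∀ n : ℕ, ∀ (B : Type u) [CommRing B] [Algebra A₀ B] [Algebra R B] [IsScalarTower R A₀ B]
      (s : Finset B), s.card ≤ n → Algebra.adjoin A₀ (s : Set B) = ⊤ → GoodPair R A₀ B := by
  classical
  intro n
  induction n with
  | zero =>
    intro B _ _ _ _ s hs hadj
    have : s = ∅ := Finset.card_eq_zero.mp (by omega)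
    subst this
    apply goodPair_of_surjective hA₀
    intro b
    have hb : b ∈ Algebra.adjoin A₀ ((∅ : Finset B) : Set B) := by rw [hadj]; trivial
    rw [Finset.coe_empty, Algebra.adjoin_empty] at hb
    exact Algebra.mem_bot.mp hb
  | succ n ih =>
    intro B _ _ _ _ s hs hadj
    by_cases hs' : s.card ≤ n
    · exact ih B s hs' hadj
    · have hne : s.Nonempty := by
        rw [← Finset.card_pos]; omega
      obtain ⟨x, hx⟩ := hne
      set s' := s.erase x with hs'def
      have hins : insert x (s' : Set B) = (s : Set B) := by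
        rw [hs'def, ← Finset.coe_insert, Finset.insert_erase hx]
      refine goodPair_step' s' x (by rw [hins]; exact hadj) ?_
      let s'' : Finset (Algebra.adjoin A₀ (s' : Set B)) :=
        s'.attach.image (fun y => ⟨y.1, Algebra.subset_adjoin y.2⟩)
      refine ih _ s'' ?_ ?_
      · calc s''.card ≤ s'.attach.card := Finset.card_image_le
          _ = s'.card := Finset.card_attach
          _ ≤ n := by rw [hs'def, Finset.card_erase_of_mem hx]; omega
      · have h1 : (s'' : Set (Algebra.adjoin A₀ (s' : Set B))) =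
            ((↑) : Algebra.adjoin A₀ (s' : Set B) → B) ⁻¹' (s' : Set B) := by
          ext ⟨y, hy⟩
          simp [s'']
        rw [h1]
        exact Algebra.adjoin_adjoin_coe_preimage

theorem goodPair_of_finiteType' [IsDomain R] [Algebra.FiniteType R A₀] (hA₀ : GoodRing R A₀)
    (B : Type u) [CommRing B] [Algebra A₀ B] [Algebra R B] [IsScalarTower R A₀ B]
    [Algebra.FiniteType A₀ B] : GoodPair R A₀ B := by
  obtain ⟨s, hs⟩ := (Algebra.FiniteType.out : (⊤ : Subalgebra A₀ B).FG)
  exact goodPair_of_card' hA₀ s.card B s le_rfl hs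

/-- A domain is good for itself. -/
theorem goodRing_self' (R : Type u) [CommRing R] [IsDomain R] :
    GoodRing R R := by
  intro L _ instB instR hST _
  have h : instB = instR := by
    apply Module.ext' _ _
    intro r m
    have h1 := hST.smul_assoc r 1 m
    rw [smul_eq_mul, mul_one, @one_smul R L _ instB.toMulAction] at h1
    exact h1
  subst h
  exact HasABasis.of_finite_domain

/-- **Generic freeness** over an arbitrary domain: finite modules over a finite type algebra are
generically free. -/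
theorem goodRing_of_finiteType' (R : Type u) [CommRing R] [IsDomain R]
    (A : Type u) [CommRing A] [Algebra R A] [Algebra.FiniteType R A] : GoodRing R A :=
  haveI : Algebra.FiniteType R R := inferInstance
  (goodPair_of_finiteType' (goodRing_self' R) A).goodRing

/-- **Generic freeness** over an arbitrary domain, three ring version. -/
theorem goodPair_of_finiteType_of_finiteType' (R : Type u) [CommRing R] [IsDomain R]
    (A : Type u) [CommRing A] [Algebra R A] [Algebra.FiniteType R A]
    (B : Type u) [CommRing B] [Algebra A B] [Algebra R B] [IsScalarTower R A B]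
    [Algebra.FiniteType A B] : GoodPair R A B :=
  goodPair_of_finiteType' (goodRing_of_finiteType' R A) B

end Induction

end Groth.Agent.Helper9.GenFree
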