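import Mathlib
import Groth.Agent.Lib.Helper9.GenFree.Main2

set_option autoImplicit false

namespace Groth.Agent.Helper9.GenFree

universe u

/-- torsion elements are killed by a power of `a` when there is an `a`-basis -/
lemma IsABasis.exists_pow_smul_eq_zero {R : Type*} [CommRing R] [IsDomain R] {Q : Type*}
    [AddCommGroup Q] [Module R Q] {a : R} {ι : Type*} {b : ι → Q} (h : IsABasis a b)
    {z : Q} {r : R} (hr : r ≠ 0) (hz : r • z = 0) : ∃ k : ℕ, a ^ k • z = 0 := by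
  obtain ⟨k, hk⟩ := h.2 z
  obtain ⟨c, hc⟩ := (Finsupp.mem_span_range_iff_exists_finsupp).mp hk
  rw [← Finsupp.linearCombination_apply] at hc
  refine ⟨k, ?_⟩
  have h1 : r • c = 0 := by
    apply h.1 (r • c) ⟨0, ?_⟩
    rw [pow_zero, one_smul, map_smul, hc, smul_comm, hz, smul_zero]
  have h2 : c = 0 := by
    ext i
    have h4 := DFunLike.congr_fun h1 i
    simp only [Finsupp.smul_apply, smul_eq_mul, Finsupp.zero_apply, mul_eq_zero] at h4
    exact h4.resolve_left hr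
  rw [← hc, h2, map_zero]

section Core

variable (R S M : Type u) [CommRing R] [IsDomain R] [CommRing S] [Algebra R S]
  [Algebra.FiniteType R S] [AddCommGroup M] [Module S M] [Module R M] [IsScalarTower R S M]
  [Module.Finite S M]

/-- finitely presented approximation of a finite type algebra, with torsion kernel -/
lemma exists_fp_algebra_approx : ∃ (S' : Type u) (_ : CommRing S') (_ : Algebra R S')
    (_ : Algebra.FinitePresentation R S') (π : S' →ₐ[R] S), Function.Surjective π ∧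
    ∀ z : S', π z = 0 → ∃ r : R, r ≠ 0 ∧ r • z = 0 := by
  obtain ⟨n, φ, hφ⟩ := Algebra.FiniteType.iff_quotient_mvPolynomial''.mp
    (inferInstance : Algebra.FiniteType R S)
  set Pn := MvPolynomial (Fin n) R
  obtain ⟨I₀, hI₀le, hI₀fg, hI₀⟩ :=
    (genFG_of_finiteType (R := R) (B := Pn) (L := Pn)) (RingHom.ker φ.toRingHom)
  have hle : ∀ a ∈ I₀, φ a = 0 := fun a ha => hI₀le ha
  refine ⟨Pn ⧸ I₀, inferInstance, inferInstance, Algebra.FinitePresentation.quotient hI₀fg,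
    Ideal.Quotient.liftₐ I₀ φ hle, ?_, ?_⟩
  · intro s
    obtain ⟨p, rfl⟩ := hφ s
    exact ⟨Ideal.Quotient.mk I₀ p, rfl⟩
  · intro z hz
    obtain ⟨p, rfl⟩ := Ideal.Quotient.mk_surjective z
    have hp : p ∈ RingHom.ker φ.toRingHom := hz
    obtain ⟨r, hr, hrp⟩ := hI₀ p hp
    refine ⟨r, hr, ?_⟩
    have : r • (Ideal.Quotient.mk I₀ p) = Ideal.Quotient.mk I₀ (r • p) := rfl
    rw [this]
    exact Ideal.Quotient.eq_zero_iff_mem.mpr hrp

/-- finitely presented approximation of a finite module, with torsion kernel -/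
lemma exists_fp_module_approx : ∃ (M' : Type u) (_ : AddCommGroup M') (_ : Module S M')
    (_ : Module R M') (_ : IsScalarTower R S M')
    (_ : Module.FinitePresentation S M') (ρ : M' →ₗ[S] M), Function.Surjective ρ ∧
    ∀ z : M', ρ z = 0 → ∃ r : R, r ≠ 0 ∧ r • z = 0 := by
  obtain ⟨q, ψ, hψ⟩ := Module.Finite.exists_fin' S M
  obtain ⟨K₀, hK₀le, hK₀fg, hK₀⟩ :=
    (genFG_of_finiteType (R := R) (B := S) (L := Fin q → S)) (LinearMap.ker ψ)
  refine ⟨(Fin q → S) ⧸ K₀, inferInstance, inferInstance, inferInstance, inferInstance, ?_,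
    K₀.liftQ ψ hK₀le, ?_, ?_⟩
  · apply Module.finitePresentation_of_free_of_surjective K₀.mkQ K₀.mkQ_surjective
    rw [Submodule.ker_mkQ]
    exact hK₀fg
  · intro m
    obtain ⟨v, rfl⟩ := hψ m
    exact ⟨K₀.mkQ v, rfl⟩
  · intro z hz
    obtain ⟨v, rfl⟩ := K₀.mkQ_surjective z
    have hv : v ∈ LinearMap.ker ψ := hz
    obtain ⟨r, hr, hrv⟩ := hK₀ v hv
    refine ⟨r, hr, ?_⟩
    have : r • K₀.mkQ v = K₀.mkQ (r • v) := rfl
    rw [this]
    exact (Submodule.Quotient.mk_eq_zero K₀).mpr hrv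

/-- **Generic freeness**, core form: a common denominator `f` for which `M` and `S` have
`f`-bases, and finitely presented approximations whose kernels are `f`-power torsion. -/
theorem generic_freeness_core : ∃ f : R, f ≠ 0 ∧
    (∃ (ιM : Type u) (bM : ιM → M), IsABasis f bM) ∧
    (∃ (ιS : Type u) (bS : ιS → S), IsABasis f bS) ∧
    (∃ (S' : Type u) (_ : CommRing S') (_ : Algebra R S')
      (_ : Algebra.FinitePresentation R S') (π : S' →ₐ[R] S), Function.Surjective π ∧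
      ∀ z : S', π z = 0 → ∃ k : ℕ, f ^ k • z = 0) ∧
    (∃ (M' : Type u) (_ : AddCommGroup M') (_ : Module S M') (_ : Module R M')
      (_ : IsScalarTower R S M')
      (_ : Module.FinitePresentation S M') (ρ : M' →ₗ[S] M), Function.Surjective ρ ∧
      ∀ z : M', ρ z = 0 → ∃ k : ℕ, f ^ k • z = 0) := by
  obtain ⟨a₁, ha₁, ι₁, b₁, hb₁⟩ := goodRing_of_finiteType' R S M
  obtain ⟨a₂, ha₂, ι₂, b₂, hb₂⟩ := goodRing_of_finiteType' R S S
  obtain ⟨S', _, _, hS'fp, π, hπ, hπker⟩ := exists_fp_algebra_approx R S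
  obtain ⟨M', _, _, _, _, hM'fp, ρ, hρ, hρker⟩ := exists_fp_module_approx R S M
  have : Algebra.FiniteType R S' := inferInstance
  obtain ⟨a₃, ha₃, ι₃, b₃, hb₃⟩ := goodRing_of_finiteType' R S' S'
  obtain ⟨a₄, ha₄, ι₄, b₄, hb₄⟩ := goodRing_of_finiteType' R S M'
  set f := a₁ * a₂ * a₃ * a₄ with hf
  have hf0 : f ≠ 0 := mul_ne_zero (mul_ne_zero (mul_ne_zero ha₁ ha₂) ha₃) ha₄
  refine ⟨f, hf0, ⟨ι₁, b₁, hb₁.of_dvd hf0 ⟨a₂ * a₃ * a₄, by rw [hf]; ring⟩⟩,
    ⟨ι₂, b₂, hb₂.of_dvd hf0 ⟨a₁ * a₃ * a₄, by rw [hf]; ring⟩⟩,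
    ⟨S', _, _, hS'fp, π, hπ, fun z hz => ?_⟩,
    ⟨M', _, _, _, ‹IsScalarTower R S M'›, hM'fp, ρ, hρ, fun z hz => ?_⟩⟩
  · obtain ⟨r, hr, hrz⟩ := hπker z hz
    exact (hb₃.of_dvd hf0 ⟨a₁ * a₂ * a₄, by rw [hf]; ring⟩).exists_pow_smul_eq_zero hr hrz
  · obtain ⟨r, hr, hrz⟩ := hρker z hz
    exact (hb₄.of_dvd hf0 ⟨a₁ * a₂ * a₃, by rw [hf]; ring⟩).exists_pow_smul_eq_zero hr hrz

end Core

end Groth.Agent.Helper9.GenFree
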