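import Mathlib
import Groth.Agent.Lib.Helper9.GenFree.Core

set_option autoImplicit false

namespace Groth.Agent.Helper9.GenFree

universe u

open TensorProduct

section Forms

variable {R : Type u} [CommRing R]

/-- tensoring an `f`-power torsion module with the localization away from `f` gives zero -/
lemma subsingleton_tensor_of_torsion (f : R) (N : Type*) [AddCommGroup N] [Module R N]
    (h : ∀ z : N, ∃ k : ℕ, f ^ k • z = 0) : Subsingleton (Localization.Away f ⊗[R] N) := by
  refine ⟨fun x y => ?_⟩
  have key : ∀ t : Localization.Away f ⊗[R] N, t = 0 := by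
    intro t
    induction t using TensorProduct.induction_on with
    | zero => rfl
    | tmul x z =>
      obtain ⟨k, hk⟩ := h z
      have hu : IsUnit (algebraMap R (Localization.Away f) (f ^ k)) :=
        IsLocalization.map_units (Localization.Away f) (⟨f ^ k, k, rfl⟩ : Submonoid.powers f)
      obtain ⟨u, hu⟩ := hu
      have h1 : x = (f ^ k) • (x * ↑u⁻¹) := by
        rw [Algebra.smul_def, ← hu, mul_comm x, ← mul_assoc, Units.mul_inv, one_mul]
      rw [h1, TensorProduct.smul_tmul, hk, TensorProduct.tmul_zero]
    | add a b ha hb => rw [ha, hb, add_zero]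
  rw [key x, key y]

/-- algebra form -/
theorem finitePresentation_tensor_of_torsion_ker {S S' : Type u} [CommRing S] [Algebra R S]
    [CommRing S'] [Algebra R S'] [Algebra.FinitePresentation R S'] (f : R)
    (π : S' →ₐ[R] S) (hπ : Function.Surjective π)
    (hker : ∀ z : S', π z = 0 → ∃ k : ℕ, f ^ k • z = 0) :
    Algebra.FinitePresentation (Localization.Away f) (Localization.Away f ⊗[R] S) := by
  set Φ : Localization.Away f ⊗[R] S' →ₐ[Localization.Away f] Localization.Away f ⊗[R] S :=
    Algebra.TensorProduct.map (AlgHom.id _ _) π with hΦ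
  have hΦl : ∀ x, Φ x = (π.toLinearMap.lTensor (Localization.Away f)) x := by
    intro x
    induction x using TensorProduct.induction_on with
    | zero => simp
    | tmul a b => simp [hΦ]
    | add a b ha hb => rw [map_add, map_add, ha, hb]
  have hsurj : Function.Surjective Φ := by
    intro y
    obtain ⟨x, hx⟩ := LinearMap.lTensor_surjective (Localization.Away f) (g := π.toLinearMap) hπ y
    exact ⟨x, by rw [hΦl, hx]⟩
  have hinj : Function.Injective Φ := by
    rw [injective_iff_map_eq_zero]
    intro x hx
    rw [hΦl] at hx
    have hex := lTensor_exact (Localization.Away f)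
      (LinearMap.exact_subtype_ker_map π.toLinearMap) hπ
    obtain ⟨y, rfl⟩ := (hex x).mp hx
    have : Subsingleton (Localization.Away f ⊗[R] (LinearMap.ker π.toLinearMap)) := by
      apply subsingleton_tensor_of_torsion
      rintro ⟨z, hz⟩
      obtain ⟨k, hk⟩ := hker z hz
      exact ⟨k, Subtype.ext hk⟩
    rw [Subsingleton.elim y 0, map_zero]
  apply Algebra.FinitePresentation.of_surjective (f := Φ) hsurj
  have : RingHom.ker Φ.toRingHom = ⊥ := (RingHom.injective_iff_ker_eq_bot _).mp hinj
  rw [this]
  exact Submodule.fg_bot

/-- module form -/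
theorem finitePresentation_localizedModule_of_torsion_ker {S : Type u} [CommRing S]
    {M M' : Type u} [AddCommGroup M] [Module S M] [AddCommGroup M'] [Module S M']
    [Module.FinitePresentation S M'] (g : S) (ρ : M' →ₗ[S] M) (hρ : Function.Surjective ρ)
    (hker : ∀ z : M', ρ z = 0 → ∃ k : ℕ, g ^ k • z = 0) :
    Module.FinitePresentation (Localization.Away g)
      (LocalizedModule (Submonoid.powers g) M) := by
  set Ψ := LocalizedModule.map (Submonoid.powers g) ρ with hΨ
  have hsurj : Function.Surjective Ψ := LocalizedModule.map_surjective _ ρ hρ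
  have hinj : Function.Injective Ψ := by
    rw [injective_iff_map_eq_zero]
    intro x hx
    induction x using LocalizedModule.induction_on with
    | h m s =>
      rw [hΨ, LocalizedModule.map_mk] at hx
      have h0 : (0 : LocalizedModule (Submonoid.powers g) M) = LocalizedModule.mk 0 1 :=
        (LocalizedModule.zero_mk 1).symm
      rw [h0, LocalizedModule.mk_eq] at hx
      obtain ⟨t, ht⟩ := hx
      simp only [one_smul, smul_zero] at ht
      have h1 : ρ ((t : S) • m) = 0 := by rw [map_smul]; exact ht
      obtain ⟨k, hk⟩ := hker _ h1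
      have h0' : (0 : LocalizedModule (Submonoid.powers g) M') = LocalizedModule.mk 0 1 :=
        (LocalizedModule.zero_mk 1).symm
      rw [h0', LocalizedModule.mk_eq]
      refine ⟨⟨g ^ k, k, rfl⟩ * t, ?_⟩
      simp only [one_smul, smul_zero]
      rw [mul_smul]
      exact hk
  exact Module.FinitePresentation.of_equiv (LinearEquiv.ofBijective Ψ ⟨hinj, hsurj⟩)

end Forms

end Groth.Agent.Helper9.GenFree
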